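import Groth.Agent.Lib.GrUnit28.Basic
import Groth.Agent.Lib.FlatDepth.FieldExt
import Mathlib.RingTheory.AdjoinRoot
import Mathlib.Algebra.Polynomial.Laurent

/-! Adjoining a root of a homogeneous unit gives a Laurent ring. -/

set_option autoImplicit false
set_option linter.style.haveILetI false

universe u

open DirectSum LaurentPolynomial

namespace Groth.Agent.GrUnit28

variable {R : Type u} [CommRing R] (𝒜 : ℤ → AddSubgroup R) [GradedRing 𝒜]

/-- The ring map `x ↦ ∑ f(x_i) T^i`. -/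
noncomputable def spread {S : Type u} [CommRing S] (f : R →+* S) (w : Sˣ) : R →+* S :=
  (DirectSum.toSemiring (fun i => (AddMonoidHom.mulRight (((w ^ i : Sˣ)) : S)).comp (f.toAddMonoidHom.comp (𝒜 i).subtype))
    (by show f 1 * ((w ^ (0 : ℤ) : Sˣ) : S) = 1; simp)
    (fun {i j} x y => by
      show f (x.1 * y.1) * ((w ^ (i + j) : Sˣ) : S) = f x.1 * ((w ^ i : Sˣ) : S) * (f y.1 * ((w ^ j : Sˣ) : S))
      rw [map_mul, zpow_add, Units.val_mul]
      ring)).comp (DirectSum.decomposeRingEquiv 𝒜).toRingHom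

theorem spread_of_mem {S : Type u} [CommRing S] (f : R →+* S) (w : Sˣ) {i : ℤ} {x : R} (hx : x ∈ 𝒜 i) :
    spread 𝒜 f w x = f x * ((w ^ i : Sˣ) : S) := by
  rw [spread, RingHom.comp_apply]
  show DirectSum.toSemiring _ _ _ (decompose 𝒜 x) = _
  rw [DirectSum.decompose_of_mem 𝒜 hx, DirectSum.toSemiring_of]
  rfl

include 𝒜 in
theorem ext_of_mem {S : Type u} [CommRing S] {f g : R →+* S}
    (h : ∀ (i : ℤ) (x : R), x ∈ 𝒜 i → f x = g x) : f = g := by
  classical
  refine RingHom.ext fun x => ?_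
  rw [← DirectSum.sum_support_decompose 𝒜 x, map_sum, map_sum]
  exact Finset.sum_congr rfl fun i _ => h i _ (SetLike.coe_mem _)

variable (N : ℕ) (tu : Rˣ)

theorem isRegularRing_adjoinRoot [IsNoetherianRing R] (ht : (tu : R) ∈ 𝒜 (N : ℤ)) (hN : 0 < N)
    (hC : IsRegularRing (R ⧸ Ideal.span {(tu : R) - 1})) :
    IsRegularRing (AdjoinRoot (Polynomial.X ^ N - Polynomial.C (tu : R))) := by
  let p := Polynomial.X ^ N - Polynomial.C (tu : R)
  let S := AdjoinRoot p
  let C' := R ⧸ Ideal.span {(tu : R) - 1}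
  have hUN : (AdjoinRoot.root p) ^ N = AdjoinRoot.of p (tu : R) := by
    have h := AdjoinRoot.eval₂_root p
    rw [Polynomial.eval₂_sub, Polynomial.eval₂_X_pow, Polynomial.eval₂_C, sub_eq_zero] at h
    exact h
  have hU : IsUnit (AdjoinRoot.root p) :=
    (isUnit_pow_iff (by omega)).1 (hUN ▸ tu.isUnit.map (AdjoinRoot.of p))
  obtain ⟨U, hUr⟩ := hU
  let T1 : C'[T;T⁻¹]ˣ := (isUnit_T (R := C') 1).unit
  have hT1 : ∀ n : ℤ, ((T1 ^ n : C'[T;T⁻¹]ˣ) : C'[T;T⁻¹]) = T n := by
    intro n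
    have hinv : ((T1⁻¹ : C'[T;T⁻¹]ˣ) : C'[T;T⁻¹]) = T (-1) :=
      Units.inv_eq_of_mul_eq_one_right (by
        show T 1 * T (-1) = 1
        rw [← T_add, add_neg_cancel, T_zero])
    induction n using Int.induction_on with
    | zero => simp
    | succ i ih =>
      rw [zpow_add_one, Units.val_mul, ih, show (T1 : C'[T;T⁻¹]) = T 1 from rfl, ← T_add]
    | pred i ih =>
      rw [zpow_sub_one, Units.val_mul, ih, hinv, ← T_add, ← sub_eq_add_neg]
  let qC : R →+* C' := Ideal.Quotient.mk _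
  have hqt : qC (tu : R) = 1 := (Ideal.Quotient.eq.2 (Ideal.mem_span_singleton_self _)).trans (map_one _)
  let α : R →+* C'[T;T⁻¹] := spread 𝒜 (LaurentPolynomial.C.comp qC) T1
  have hαt : p.eval₂ α (T 1) = 0 := by
    show (Polynomial.X ^ N - Polynomial.C (tu : R)).eval₂ α (T 1) = 0
    rw [Polynomial.eval₂_sub, Polynomial.eval₂_X_pow, Polynomial.eval₂_C, sub_eq_zero]
    show _ = spread 𝒜 _ T1 (tu : R)
    rw [spread_of_mem 𝒜 _ _ ht, RingHom.comp_apply, hqt, map_one, one_mul, hT1, T_pow, mul_one]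
  let F : S →+* C'[T;T⁻¹] := AdjoinRoot.lift α (T 1) hαt
  let ρ : R →+* S := spread 𝒜 (AdjoinRoot.of p) U⁻¹
  have hρt : ρ (tu : R) = 1 := by
    show spread 𝒜 _ U⁻¹ (tu : R) = 1
    rw [spread_of_mem 𝒜 _ _ ht, zpow_natCast, ← hUN, ← hUr, ← Units.val_pow_eq_pow_val, ← Units.val_mul, inv_pow,
      mul_inv_cancel, Units.val_one]
  let ρC : C' →+* S := Ideal.Quotient.lift _ ρ fun x hx => by
    obtain ⟨a, rfl⟩ := Ideal.mem_span_singleton'.1 hx
    rw [map_mul, map_sub, hρt, map_one, sub_self, mul_zero]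
  let G : C'[T;T⁻¹] →+* S := LaurentPolynomial.eval₂ ρC U
  have hGF : G.comp F = RingHom.id S := by
    refine AdjoinRoot.ringHom_ext (ext_of_mem 𝒜 fun i x hx => ?_) ?_
    · show G (F (AdjoinRoot.of p x)) = AdjoinRoot.of p x
      rw [AdjoinRoot.lift_of]
      show G (spread 𝒜 _ T1 x) = _
      rw [spread_of_mem 𝒜 _ _ hx, RingHom.comp_apply, hT1, map_mul]
      show LaurentPolynomial.eval₂ ρC U (LaurentPolynomial.C (qC x)) * LaurentPolynomial.eval₂ ρC U (T i) = _
      rw [eval₂_C, eval₂_T]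
      show ρ x * _ = _
      rw [show ρ x = AdjoinRoot.of p x * ((U⁻¹ ^ i : Sˣ) : S) from spread_of_mem 𝒜 _ _ hx, mul_assoc,
        ← Units.val_mul, inv_zpow, inv_mul_cancel, Units.val_one, mul_one]
    · show G (F (AdjoinRoot.root p)) = AdjoinRoot.root p
      rw [AdjoinRoot.lift_root]
      show LaurentPolynomial.eval₂ ρC U (T 1) = _
      rw [eval₂_T, zpow_one, hUr]
  have hFρ : F.comp ρ = LaurentPolynomial.C.comp qC := ext_of_mem 𝒜 fun i x hx => by
    show F (spread 𝒜 _ U⁻¹ x) = LaurentPolynomial.C (qC x)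
    rw [spread_of_mem 𝒜 _ _ hx, map_mul, AdjoinRoot.lift_of]
    show spread 𝒜 _ T1 x * _ = _
    rw [spread_of_mem 𝒜 _ _ hx, RingHom.comp_apply, mul_assoc]
    have hmap : Units.map F.toMonoidHom U = T1 := Units.ext (by
      show F (U : S) = T 1
      rw [hUr, AdjoinRoot.lift_root])
    have : F ((U⁻¹ ^ i : Sˣ) : S) = ((T1⁻¹ ^ i : C'[T;T⁻¹]ˣ) : C'[T;T⁻¹]) := by
      have h := congrArg Units.val (map_zpow (Units.map F.toMonoidHom) U⁻¹ i)
      rw [map_inv, hmap] at h
      exact h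
    rw [this, inv_zpow, ← Units.val_mul, mul_inv_cancel, Units.val_one, mul_one]
  have hFG : F.comp G = RingHom.id C'[T;T⁻¹] := by
    refine RingHom.ext fun f => ?_
    induction f using LaurentPolynomial.induction_on' with
    | add a b ha hb => simp only [map_add, ha, hb]
    | C_mul_T n a =>
      obtain ⟨x, rfl⟩ := Ideal.Quotient.mk_surjective a
      show F (G (LaurentPolynomial.C (qC x) * T n)) = _
      rw [map_mul, map_mul]
      congr 1
      · show F (LaurentPolynomial.eval₂ ρC U (LaurentPolynomial.C (qC x))) = _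
        rw [eval₂_C]
        exact RingHom.congr_fun hFρ x
      · show F (LaurentPolynomial.eval₂ ρC U (T n)) = T n
        rw [eval₂_T]
        have hmap : Units.map F.toMonoidHom U = T1 := Units.ext (by
          show F (U : S) = T 1
          rw [hUr, AdjoinRoot.lift_root])
        have h := congrArg Units.val (map_zpow (Units.map F.toMonoidHom) U n)
        rw [hmap, hT1] at h
        exact h
  let e : C'[T;T⁻¹] ≃+* S := RingEquiv.ofRingHom G F hGF hFG
  haveI : IsRegularRing C' := hC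
  haveI : IsRegularRing C'[T;T⁻¹] :=
    FlatDepth.isRegularRing_of_isLocalization (R := Polynomial C') (Submonoid.powers (Polynomial.X : Polynomial C'))
  exact IsRegularRing.of_ringEquiv e

end Groth.Agent.GrUnit28
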