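import Groth.Prelude.Def_GrLC
import Groth.Agent.Lib.RegLoc.Basic
import Groth.Agent.Lib.RegLoc.Quotient
import Mathlib.Algebra.DualNumber
import Mathlib.RingTheory.GradedAlgebra.Basic
import Mathlib.RingTheory.Ideal.GoingUp
import Mathlib.RingTheory.Localization.AtPrime.Basic

/-! Regularity of the dehomogenisation of a graded ring at a homogeneous unit. -/

set_option autoImplicit false
set_option linter.style.haveILetI false

universe u

open IsLocalRing DirectSum
open scoped DualNumber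

namespace Groth.Agent.GrUnit28

variable {R : Type u} [CommRing R] (𝒜 : ℤ → AddSubgroup R) [GradedRing 𝒜] (N : ℕ)

theorem zpow_mem (tu : Rˣ) (ht : (tu : R) ∈ 𝒜 (N : ℤ)) (q : ℤ) :
    ((tu ^ q : Rˣ) : R) ∈ 𝒜 (q * N) := by
  have hinv : ((tu⁻¹ : Rˣ) : R) ∈ 𝒜 (-(N : ℤ)) := by
    have h := DirectSum.coe_decompose_mul_add_of_left_mem 𝒜 (b := ((tu⁻¹ : Rˣ) : R)) (j := -(N : ℤ)) ht
    rw [Units.mul_inv, add_neg_cancel, DirectSum.decompose_of_mem_same 𝒜 (SetLike.one_mem_graded 𝒜)] at h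
    have h2 : (decompose 𝒜 ((tu⁻¹ : Rˣ) : R) (-(N : ℤ)) : R) = ((tu⁻¹ : Rˣ) : R) := by
      refine (Units.inv_mul_cancel_left tu _).symm.trans ?_
      rw [← h, mul_one]
    exact h2 ▸ SetLike.coe_mem _
  induction q using Int.induction_on with
  | zero => simpa using SetLike.one_mem_graded 𝒜
  | succ i ih =>
    rw [zpow_add_one, Units.val_mul, add_mul, one_mul]
    exact SetLike.mul_mem_graded ih ht
  | pred i ih =>
    rw [zpow_sub_one, Units.val_mul, sub_mul, one_mul, sub_eq_add_neg]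
    exact SetLike.mul_mem_graded ih hinv

variable (tu : Rˣ) (ht : (tu : R) ∈ 𝒜 (N : ℤ)) [IsLocalRing (GrLC.deg0 𝒜)]

/-- Move a piece of degree divisible by `N` to degree zero. -/
noncomputable def toZero (i : ℤ) (h : (N : ℤ) ∣ i) : 𝒜 i →+ GrLC.deg0 𝒜 where
  toFun x := ⟨((tu ^ (-(i / N)) : Rˣ) : R) * x, by
    have := SetLike.mul_mem_graded (zpow_mem 𝒜 N tu ht (-(i / N))) x.2
    rw [neg_mul, Int.ediv_mul_cancel h, neg_add_cancel] at this
    exact this⟩
  map_zero' := Subtype.ext (mul_zero _)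
  map_add' a b := Subtype.ext (mul_add _ _ _)

/-- The value at the closed point of a homogeneous element, moved to degree zero. -/
noncomputable def φ (i : ℤ) : 𝒜 i →+ ResidueField (GrLC.deg0 𝒜) :=
  if h : (N : ℤ) ∣ i then ((residue (GrLC.deg0 𝒜)).toAddMonoidHom).comp (toZero 𝒜 N tu ht i h) else 0

variable (hN : 0 < N) (hmin : ∀ (n : ℤ), 0 < n → n < (N : ℤ) → ∀ s ∈ 𝒜 n, ¬ IsUnit s)

include ht hN hmin in
theorem dvd_of_isUnit {i : ℤ} {x : R} (hx : x ∈ 𝒜 i) (hu : IsUnit x) : (N : ℤ) ∣ i := by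
  by_contra h
  have h1 := SetLike.mul_mem_graded (zpow_mem 𝒜 N tu ht (-(i / N))) hx
  refine hmin _ ?_ ?_ _ h1 ((tu ^ (-(i / N))).isUnit.mul hu)
  · rw [show -(i / (N : ℤ)) * N + i = i % N by rw [Int.emod_def]; ring]
    exact lt_of_le_of_ne (Int.emod_nonneg _ (by omega)) fun e => h (Int.dvd_of_emod_eq_zero e.symm)
  · rw [show -(i / (N : ℤ)) * N + i = i % N by rw [Int.emod_def]; ring]
    exact Int.emod_lt_of_pos _ (by omega)

include hN hmin in
theorem φ_mul {i j : ℤ} (x : 𝒜 i) (y : 𝒜 j) :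
    φ 𝒜 N tu ht (i + j) ⟨x.1 * y.1, SetLike.mul_mem_graded x.2 y.2⟩ = φ 𝒜 N tu ht i x * φ 𝒜 N tu ht j y := by
  unfold φ
  by_cases hi : (N : ℤ) ∣ i
  · by_cases hj : (N : ℤ) ∣ j
    · rw [dif_pos (dvd_add hi hj), dif_pos hi, dif_pos hj]
      simp only [AddMonoidHom.comp_apply, RingHom.toAddMonoidHom_eq_coe, AddMonoidHom.coe_coe, ← map_mul]
      congr 1
      refine Subtype.ext ?_
      show ((tu ^ (-((i + j) / N)) : Rˣ) : R) * (x.1 * y.1) =
        ((tu ^ (-(i / N)) : Rˣ) : R) * x * (((tu ^ (-(j / N)) : Rˣ) : R) * y)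
      rw [Int.add_ediv_of_dvd_left hi, neg_add, zpow_add, Units.val_mul]
      ring
    · rw [dif_neg fun h => hj ((dvd_add_right hi).1 h), dif_neg hj]
      simp
  · rw [dif_neg hi]
    by_cases hij : (N : ℤ) ∣ i + j
    · rw [dif_pos hij]
      simp only [AddMonoidHom.zero_apply, zero_mul, AddMonoidHom.comp_apply, RingHom.toAddMonoidHom_eq_coe,
        AddMonoidHom.coe_coe, residue_eq_zero_iff, mem_maximalIdeal, mem_nonunits_iff]
      intro hu
      have h2 : IsUnit (((tu ^ (-((i + j) / N)) : Rˣ) : R) * (x.1 * y.1)) := hu.map (GrLC.deg0 𝒜).subtype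
      exact hi (dvd_of_isUnit 𝒜 N tu ht hN hmin x.2 (isUnit_of_mul_isUnit_left (isUnit_of_mul_isUnit_right h2)))
    · rw [dif_neg hij]
      simp

/-- `1 + ε`. -/
def uε (k : Type u) [CommRing k] : (k[ε])ˣ where
  val := 1 + DualNumber.eps
  inv := 1 - DualNumber.eps
  val_inv := by rw [← sub_eq_zero]; linear_combination (-1 : k[ε]) * DualNumber.eps_mul_eps (R := k)
  inv_val := by rw [← sub_eq_zero]; linear_combination (-1 : k[ε]) * DualNumber.eps_mul_eps (R := k)

/-- The components of the first-order character. -/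
noncomputable def comp1 (i : ℤ) : 𝒜 i →+ (ResidueField (GrLC.deg0 𝒜))[ε] :=
  (AddMonoidHom.mulRight (((uε _) ^ (i / (N : ℤ)) : ((ResidueField (GrLC.deg0 𝒜))[ε])ˣ) : (ResidueField (GrLC.deg0 𝒜))[ε])).comp
    ((algebraMap _ _ : ResidueField (GrLC.deg0 𝒜) →+* (ResidueField (GrLC.deg0 𝒜))[ε]).toAddMonoidHom.comp (φ 𝒜 N tu ht i))

theorem comp1_apply (i : ℤ) (x : 𝒜 i) : comp1 𝒜 N tu ht i x =
    algebraMap _ _ (φ 𝒜 N tu ht i x) * (((uε _) ^ (i / (N : ℤ)) : ((ResidueField (GrLC.deg0 𝒜))[ε])ˣ) : (ResidueField (GrLC.deg0 𝒜))[ε]) := rfl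

/-- The first-order character at the closed point. -/
noncomputable def ψ : R →+* (ResidueField (GrLC.deg0 𝒜))[ε] :=
  (DirectSum.toSemiring (comp1 𝒜 N tu ht)
    (by
      rw [comp1_apply]
      show algebraMap _ _ (φ 𝒜 N tu ht 0 ⟨1, SetLike.one_mem_graded 𝒜⟩) * _ = 1
      unfold φ
      rw [dif_pos (dvd_zero _), Int.zero_ediv, zpow_zero, Units.val_one, mul_one]
      simp only [AddMonoidHom.comp_apply, RingHom.toAddMonoidHom_eq_coe, AddMonoidHom.coe_coe]
      rw [show toZero 𝒜 N tu ht 0 (dvd_zero _) ⟨1, SetLike.one_mem_graded 𝒜⟩ = 1 from Subtype.ext (by simp [toZero]),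
        map_one, map_one])
    (fun {i j} x y => by
      rw [comp1_apply, comp1_apply, comp1_apply]
      show algebraMap _ _ (φ 𝒜 N tu ht (i + j) ⟨x.1 * y.1, SetLike.mul_mem_graded x.2 y.2⟩) * _ = _
      rw [φ_mul 𝒜 N tu ht hN hmin, map_mul]
      by_cases hi : (N : ℤ) ∣ i
      · rw [Int.add_ediv_of_dvd_left hi, zpow_add, Units.val_mul]
        ring
      · rw [show φ 𝒜 N tu ht i x = 0 by rw [φ, dif_neg hi]; rfl, map_zero]
        ring)).comp (DirectSum.decomposeRingEquiv 𝒜).toRingHom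

theorem ψ_of_mem {i : ℤ} {x : R} (hx : x ∈ 𝒜 i) :
    ψ 𝒜 N tu ht hN hmin x = comp1 𝒜 N tu ht i ⟨x, hx⟩ := by
  rw [ψ, RingHom.comp_apply]
  show DirectSum.toSemiring _ _ _ (decompose 𝒜 x) = _
  rw [DirectSum.decompose_of_mem 𝒜 hx, DirectSum.toSemiring_of]

theorem ψ_t : ψ 𝒜 N tu ht hN hmin (tu : R) = 1 + DualNumber.eps := by
  rw [ψ_of_mem 𝒜 N tu ht hN hmin ht, comp1_apply, Int.ediv_self (by omega), zpow_one, φ, dif_pos (dvd_refl _)]
  have : toZero 𝒜 N tu ht (N : ℤ) (dvd_refl _) ⟨tu, ht⟩ = 1 := Subtype.ext (by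
    show ((tu ^ (-((N : ℤ) / N)) : Rˣ) : R) * tu = 1
    rw [Int.ediv_self (by omega), zpow_neg_one, Units.inv_mul])
  simp [this, uε]

theorem ψ_deg0 (c : GrLC.deg0 𝒜) :
    ψ 𝒜 N tu ht hN hmin (c : R) = algebraMap _ _ (residue (GrLC.deg0 𝒜) c) := by
  rw [ψ_of_mem 𝒜 N tu ht hN hmin c.2, comp1_apply, Int.zero_ediv, zpow_zero, Units.val_one, mul_one, φ,
    dif_pos (dvd_zero _)]
  have : toZero 𝒜 N tu ht 0 (dvd_zero _) ⟨c, c.2⟩ = c := Subtype.ext (by simp [toZero])
  simp only [AddMonoidHom.comp_apply, RingHom.toAddMonoidHom_eq_coe, AddMonoidHom.coe_coe]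
  exact congrArg (algebraMap _ _) (congrArg (residue _) this)

include ht hN hmin in
theorem isRegularLocalRing_quotient [IsNoetherianRing R]
    (hreg : ∀ (p : Ideal R) [p.IsPrime], IsRegularLocalRing (Localization.AtPrime p)) :
    IsRegularLocalRing (R ⧸ Ideal.span {(tu : R) - 1}) := by
  classical
  set f := (tu : R) - 1 with hf
  let C := R ⧸ Ideal.span {f}
  let χ : R →+* ResidueField (GrLC.deg0 𝒜) := (TrivSqZeroExt.fstHom (ResidueField (GrLC.deg0 𝒜)) (ResidueField (GrLC.deg0 𝒜)) (ResidueField (GrLC.deg0 𝒜))).toRingHom.comp (ψ 𝒜 N tu ht hN hmin)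
  have hχsurj : Function.Surjective χ := fun a => by
    obtain ⟨c, rfl⟩ := residue_surjective a
    refine ⟨c, ?_⟩
    show TrivSqZeroExt.fst (ψ 𝒜 N tu ht hN hmin (c : R)) = _
    rw [ψ_deg0]
    exact TrivSqZeroExt.fst_inl _ _
  let Q := RingHom.ker χ
  haveI hQ : Q.IsMaximal := RingHom.ker_isMaximal_of_surjective χ hχsurj
  have hψf : ψ 𝒜 N tu ht hN hmin f = DualNumber.eps := by
    rw [hf, map_sub, ψ_t, map_one, add_sub_cancel_left]
  have hfQ : f ∈ Q := by
    show TrivSqZeroExt.fst (ψ 𝒜 N tu ht hN hmin f) = 0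
    rw [hψf]; simp
  have hint : ∀ (i : ℤ) (x : R), x ∈ 𝒜 i → ∃ c : GrLC.deg0 𝒜, Ideal.Quotient.mk (Ideal.span {f}) x ^ N =
      Ideal.Quotient.mk (Ideal.span {f}) (c : R) ∧ ((c : R) = ((tu ^ (-i) : Rˣ) : R) * x ^ N) := by
    intro i x hx
    have h1 := SetLike.mul_mem_graded (zpow_mem 𝒜 N tu ht (-i)) (SetLike.pow_mem_graded N hx)
    rw [show -i * (N : ℤ) + N • i = 0 by rw [nsmul_eq_mul]; ring] at h1
    refine ⟨⟨_, h1⟩, ?_, rfl⟩
    have htu : Units.map (Ideal.Quotient.mk (Ideal.span {f})).toMonoidHom tu = 1 := Units.ext (by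
      show Ideal.Quotient.mk (Ideal.span {f}) (tu : R) = Ideal.Quotient.mk (Ideal.span {f}) 1
      exact Ideal.Quotient.eq.2 (Ideal.mem_span_singleton_self f))
    have h2 : Ideal.Quotient.mk (Ideal.span {f}) ((tu ^ (-i) : Rˣ) : R) = 1 := by
      have := congrArg Units.val (map_zpow (Units.map (Ideal.Quotient.mk (Ideal.span {f})).toMonoidHom) tu (-i))
      rw [htu, one_zpow] at this
      exact this
    show _ = Ideal.Quotient.mk (Ideal.span {f}) (((tu ^ (-i) : Rˣ) : R) * x ^ N)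
    rw [map_mul, h2, one_mul, map_pow]
  letI : Algebra (GrLC.deg0 𝒜) C := ((Ideal.Quotient.mk (Ideal.span {f})).comp (GrLC.deg0 𝒜).subtype).toAlgebra
  haveI : Algebra.IsIntegral (GrLC.deg0 𝒜) C := ⟨fun y => by
    obtain ⟨x, rfl⟩ := Ideal.Quotient.mk_surjective y
    rw [← DirectSum.sum_support_decompose 𝒜 x, map_sum]
    refine IsIntegral.sum _ fun i _ => ?_
    obtain ⟨c, hc, -⟩ := hint i _ (SetLike.coe_mem (decompose 𝒜 x i))
    refine IsIntegral.of_pow hN ?_
    rw [hc]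
    exact isIntegral_algebraMap (R := GrLC.deg0 𝒜) (A := C) (x := c)⟩
  have huniq : ∀ J : Ideal C, J.IsMaximal → J = Q.map (Ideal.Quotient.mk (Ideal.span {f})) := by
    intro J hJ
    have hJ0 : J.comap (algebraMap (GrLC.deg0 𝒜) C) = maximalIdeal (GrLC.deg0 𝒜) :=
      eq_maximalIdeal (Ideal.isMaximal_comap_of_isIntegral_of_isMaximal J)
    have hQJ : Q ≤ J.comap (Ideal.Quotient.mk (Ideal.span {f})) := by
      intro x hx
      have key : ∀ i : ℤ, (decompose 𝒜 x i : R) ∈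
          (J.comap (Ideal.Quotient.mk (Ideal.span {f}))) ∨ (N : ℤ) ∣ i := fun i => by
        by_cases hi : (N : ℤ) ∣ i
        · exact Or.inr hi
        refine Or.inl ?_
        obtain ⟨c, hc, hce⟩ := hint i _ (SetLike.coe_mem (decompose 𝒜 x i))
        refine hJ.isPrime.mem_of_pow_mem N ?_
        rw [hc]
        show c ∈ J.comap (algebraMap (GrLC.deg0 𝒜) C)
        rw [hJ0, mem_maximalIdeal, mem_nonunits_iff]
        intro hu
        have h2 := hu.map (GrLC.deg0 𝒜).subtype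
        rw [show (GrLC.deg0 𝒜).subtype c = (c : R) from rfl, hce] at h2
        exact hi (dvd_of_isUnit 𝒜 N tu ht hN hmin (SetLike.coe_mem (decompose 𝒜 x i))
          ((isUnit_pow_iff (by omega)).1 (isUnit_of_mul_isUnit_right h2)))
      let g : ℤ → GrLC.deg0 𝒜 := fun i => if h : (N : ℤ) ∣ i then toZero 𝒜 N tu ht i h (decompose 𝒜 x i) else 0
      have hg : ∀ i, (decompose 𝒜 x i : R) - g i ∈ J.comap (Ideal.Quotient.mk (Ideal.span {f})) ∧
          χ (decompose 𝒜 x i : R) = residue _ (g i) := fun i => by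
        by_cases hi : (N : ℤ) ∣ i
        · refine ⟨?_, ?_⟩
          · simp only [g, dif_pos hi]
            have htu : Units.map (Ideal.Quotient.mk (Ideal.span {f})).toMonoidHom tu = 1 := Units.ext (by
              exact Ideal.Quotient.eq.2 (Ideal.mem_span_singleton_self f))
            have h2 : Ideal.Quotient.mk (Ideal.span {f}) ((tu ^ (-(i / N)) : Rˣ) : R) = 1 := by
              have := congrArg Units.val (map_zpow (Units.map (Ideal.Quotient.mk (Ideal.span {f})).toMonoidHom) tu (-(i / N)))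
              rw [htu, one_zpow] at this
              exact this
            rw [Ideal.mem_comap, map_sub]
            show _ - Ideal.Quotient.mk (Ideal.span {f}) (_ * _) ∈ J
            rw [map_mul, h2, one_mul, sub_self]
            exact J.zero_mem
          · show TrivSqZeroExt.fst (ψ 𝒜 N tu ht hN hmin _) = _
            rw [ψ_of_mem 𝒜 N tu ht hN hmin (SetLike.coe_mem _), comp1_apply, φ, dif_pos hi]
            simp only [g, dif_pos hi, TrivSqZeroExt.fst_mul]
            have hfst : ∀ q : ℤ, TrivSqZeroExt.fst (((uε (ResidueField (GrLC.deg0 𝒜))) ^ q : _ˣ) : (ResidueField (GrLC.deg0 𝒜))[ε]) = 1 := fun q => by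
              have h1 : Units.map (TrivSqZeroExt.fstHom (ResidueField (GrLC.deg0 𝒜)) (ResidueField (GrLC.deg0 𝒜)) (ResidueField (GrLC.deg0 𝒜))).toRingHom.toMonoidHom (uε _) = 1 := Units.ext (by simp [uε])
              have := congrArg Units.val (map_zpow (Units.map (TrivSqZeroExt.fstHom (ResidueField (GrLC.deg0 𝒜)) (ResidueField (GrLC.deg0 𝒜)) (ResidueField (GrLC.deg0 𝒜))).toRingHom.toMonoidHom) (uε _) q)
              rw [h1, one_zpow] at this
              exact this
            rw [hfst, mul_one]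
            exact TrivSqZeroExt.fst_inl _ _
        · refine ⟨?_, ?_⟩
          · simp only [g, dif_neg hi, ZeroMemClass.coe_zero, sub_zero]
            exact (key i).resolve_right hi
          · show TrivSqZeroExt.fst (ψ 𝒜 N tu ht hN hmin _) = _
            rw [ψ_of_mem 𝒜 N tu ht hN hmin (SetLike.coe_mem _), comp1_apply, φ, dif_neg hi]
            simp [g, dif_neg hi]
      let s := (decompose 𝒜 x).support
      have hsum : residue (GrLC.deg0 𝒜) (∑ i ∈ s, g i) = 0 := by
        rw [map_sum, ← Finset.sum_congr rfl fun i _ => (hg i).2, ← map_sum, DirectSum.sum_support_decompose]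
        exact hx
      have hsJ : ((∑ i ∈ s, g i : GrLC.deg0 𝒜) : R) ∈ J.comap (Ideal.Quotient.mk (Ideal.span {f})) := by
        show (∑ i ∈ s, g i) ∈ J.comap (algebraMap (GrLC.deg0 𝒜) C)
        rw [hJ0, ← residue_eq_zero_iff]
        exact hsum
      have : x = ∑ i ∈ s, ((decompose 𝒜 x i : R) - g i) + ((∑ i ∈ s, g i : GrLC.deg0 𝒜) : R) := by
        rw [Finset.sum_sub_distrib, DirectSum.sum_support_decompose, AddSubmonoidClass.coe_finset_sum, sub_add_cancel]
      rw [this]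
      exact Ideal.add_mem _ (Ideal.sum_mem _ fun i _ => (hg i).1) hsJ
    have := hQ.eq_of_le (Ideal.comap_ne_top _ hJ.ne_top) hQJ
    rw [this, Ideal.map_comap_of_surjective _ Ideal.Quotient.mk_surjective]
  have hne : Ideal.span {f} ≠ ⊤ := fun h =>
    hQ.ne_top (top_le_iff.1 (h ▸ (Ideal.span_singleton_le_iff_mem _).2 hfQ))
  haveI : Nontrivial C := Ideal.Quotient.nontrivial_iff.2 hne
  haveI : IsLocalRing C := IsLocalRing.of_unique_max_ideal (by
    obtain ⟨J, hJ⟩ := Ideal.exists_maximal C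
    exact ⟨J, hJ, fun J' hJ' => (huniq J' hJ').trans (huniq J hJ).symm⟩)
  let P := maximalIdeal C
  have hP : P.comap (Ideal.Quotient.mk (Ideal.span {f})) = Q := by
    rw [huniq P inferInstance, Ideal.comap_map_of_surjective _ Ideal.Quotient.mk_surjective,
      ← RingHom.ker, Ideal.mk_ker]
    exact sup_eq_left.2 ((Ideal.span_singleton_le_iff_mem _).2 hfQ)
  let P₀ := P.comap (Ideal.Quotient.mk (Ideal.span {f}))
  have hP0 : P₀ = Q := hP
  haveI : P₀.IsMaximal := by rw [hP0]; exact hQ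
  let L := Localization.AtPrime P₀
  haveI : IsRegularLocalRing L := hreg P₀
  have h2 : algebraMap R L f ∈ maximalIdeal L := by
    rw [← Localization.AtPrime.map_eq_maximalIdeal]
    exact Ideal.mem_map_of_mem _ (hP0.symm ▸ hfQ)
  have h3 : algebraMap R L f ∉ maximalIdeal L ^ 2 := by
    rw [← Localization.AtPrime.map_eq_maximalIdeal, ← Ideal.map_pow]
    intro h
    obtain ⟨s, hs, hsf⟩ := (IsLocalization.algebraMap_mem_map_algebraMap_iff P₀.primeCompl L _ _).1 h
    have hψ0 : ∀ z ∈ P₀ ^ 2, ψ 𝒜 N tu ht hN hmin z = 0 := fun z hz => by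
      rw [pow_two] at hz
      induction hz using Submodule.mul_induction_on' with
      | mem_mul_mem a ha b hb =>
        have ha' : TrivSqZeroExt.fst (ψ 𝒜 N tu ht hN hmin a) = 0 := (hP0 ▸ ha : a ∈ Q)
        have hb' : TrivSqZeroExt.fst (ψ 𝒜 N tu ht hN hmin b) = 0 := (hP0 ▸ hb : b ∈ Q)
        rw [map_mul]
        exact TrivSqZeroExt.ext (by simp [ha']) (by simp [TrivSqZeroExt.snd_mul, ha', hb'])
      | add a _ b _ ha hb => rw [map_add, ha, hb, add_zero]
    have h4 := congrArg TrivSqZeroExt.snd (hψ0 _ hsf)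
    rw [map_mul, hψf] at h4
    simp [TrivSqZeroExt.snd_mul] at h4
    exact hs (show s ∈ P₀ by rw [hP0]; exact h4)
  obtain ⟨hr, -⟩ := RegLoc.quotient_span_singleton h2 h3
  haveI : IsRegularLocalRing (L ⧸ (Ideal.span {f}).map (algebraMap R L)) :=
    IsRegularLocalRing.of_ringEquiv (Ideal.quotEquivOfEq (by rw [Ideal.map_span, Set.image_singleton]))
  haveI := RegLoc.isRegularLocalRing_localization_quotient (Ideal.span {f}) P
  exact IsRegularLocalRing.of_ringEquiv (IsLocalization.atUnits C P.primeCompl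
    (S := Localization.AtPrime P) (fun x hx => not_not.1 fun hne => hx ((mem_maximalIdeal x).2 hne))).symm.toRingEquiv

end Groth.Agent.GrUnit28
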